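import Cfsg.Agent.H812.FullSuz
import Cfsg.Agent.H903.MeetQuot
import Cfsg.Agent.H232.MeetMcL
import Cfsg.Agent.CpAut.OddOpen

/-!
# `Meet 3` for `Suz` (helper768)

The centralizer of an element `y0` of order 3 has index `45760` in `Suz` and is an extension of `⟨y0⟩` by `PSU₄(3)`.
-/

set_option autoImplicit false

namespace Cfsg.Agent.H768.Meet.SuzRow

open Subgroup Cfsg Cfsg.Agent.H903.SylMeet Cfsg.Agent.H68.MeetB
open Cfsg.Agent.SuzThree.ThreeWr (y0)

theorem card_ker {g : centralizer ({y0} : Set Spor.Suz) →* LThreeCo1Twelve.Gam.H}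
    (hk : ∀ c, g c = 1 ↔ (c : Spor.Suz) ∈ zpowers y0) : Nat.card g.ker = 3 := by
  have h2 : g.ker.map (centralizer ({y0} : Set Spor.Suz)).subtype = zpowers y0 := by
    ext x
    constructor
    · rintro ⟨c, hc, rfl⟩
      exact (hk c).1 hc
    · intro hx
      have hc : x ∈ centralizer ({y0} : Set Spor.Suz) := by
        obtain ⟨k, rfl⟩ := mem_zpowers_iff.1 hx
        exact mem_centralizer_singleton_iff.2 ((Commute.refl y0).zpow_left k).eq
      exact ⟨⟨x, hc⟩, (hk ⟨x, hc⟩).2 hx, rfl⟩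
  rw [Nat.card_congr (g.ker.equivMapOfInjective _ (subtype_injective _)).toEquiv, h2, Nat.card_zpowers,
    Cfsg.Agent.CpAutSuz.Local.orderOf_y0]

theorem meetIn_H : MeetIn 3 LThreeCo1Twelve.Gam.H := by
  obtain ⟨F, i1, i2, hF, ⟨e⟩⟩ := Cfsg.Agent.H811.PsuH.psu
  exact (H232.MeetMcL.meetIn_PSU4 hF).congr e.symm

theorem meetIn_suz [IsSimpleGroup Spor.Suz] : MeetIn 3 Spor.Suz := by
  have hcard : Nat.card Spor.Suz = 448345497600 := Cfsg.Agent.SporadicRecognition.SuzOrder.card_Suz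
  have hfin : Finite Spor.Suz := Nat.finite_of_card_ne_zero (by rw [hcard]; norm_num)
  have hp : Fact (Nat.Prime 3) := ⟨Nat.prime_three⟩
  obtain ⟨g, hs, hk⟩ := Cfsg.Agent.H811.SuzCov.cov
  refine H903.MeetQuot.of_quot_prime ?_ (C := centralizer ({y0} : Set Spor.Suz)) ?_ g hs (card_ker hk) meetIn_H
  · intro h
    obtain ⟨n, hn⟩ := IsPGroup.iff_card.1 h
    rw [hcard] at hn
    have h2 : 2 ∣ 3 ^ n := by rw [← hn]; norm_num
    exact absurd (Nat.prime_two.dvd_of_dvd_pow h2) (by norm_num)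
  · rw [H812.FullSuz.index_y0]
    norm_num

/-- **`Suz`, `p = 3`.** -/
theorem meet3_Suz {G : Type*} [Group G] [Finite G] [IsSimpleGroup G] (h : Cfsg.Spor.IsoSuz G) :
    Cfsg.Agent.H903.SylMeet.Meet 3 G := by
  have hcard : Nat.card Spor.Suz = 448345497600 := Cfsg.Agent.SporadicRecognition.SuzOrder.card_Suz
  obtain ⟨e⟩ := h
  have hs : IsSimpleGroup Spor.Suz := e.symm.isSimpleGroup
  have hp : Fact (Nat.Prime 3) := ⟨Nat.prime_three⟩
  refine MeetIn.meet (Cfsg.Agent.CpAutSuz.Row.autInner.congr e.symm) (not_comm_of_card ?_) (meetIn_suz.congr e.symm)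
  rw [Nat.card_congr e.toEquiv, hcard]
  norm_num

end Cfsg.Agent.H768.Meet.SuzRow
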